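import Cfsg.Agent.H450.S8.Soc2
import Cfsg.Agent.H175.Ore.HNDeg
import Cfsg.Agent.H315.PwHN
import Cfsg.Agent.H653.Sieve.Col
import Cfsg.Agent.H498.SporOut
import Cfsg.Agent.S2082

/-!
# S4908: the row SOC2 of `HN` (helper788)
-/

set_option autoImplicit false
set_option maxRecDepth 100000

namespace Cfsg.Agent.H788.S8.HN

open Cfsg Cfsg.Agent.H450.S8

universe u v

theorem deg {d : ℕ} (hd : d ∈ charDegrees Spor.HN) : d ∣ 273030912000000 ∧ okDeg 133 [(19, 9)] d = true := by
  have hfin := Cfsg.Agent.H710.Spor.HN.finite_hn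
  have hs : IsSimpleGroup Spor.HN := Cfsg.Agent.S1701.result.1
  have : Finite (IrrCharacter Spor.HN) := Characters.Core.finite_irr
  have := Fintype.ofFinite (IrrCharacter Spor.HN)
  obtain ⟨χ, rfl⟩ := hd
  refine ⟨by rw [← H175.Ore.HNDeg.card_hn]; exact H511.Ore.charDegree_dvd χ, ?_⟩
  have h1 : charDegree (χ : Spor.HN → ℂ) = 1 ∨ 133 ≤ charDegree (χ : Spor.HN → ℂ) := by
    by_cases h1 : (χ : Spor.HN → ℂ) = 1
    · left
      apply Blocks.Basic.charDegree_of_eq
      rw [h1, Pi.one_apply, Nat.cast_one]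
    · rcases H175.Ore.HNDeg.deg_cases h1 with h | h | h <;> omega
  have : Fact (Nat.Prime 19) := ⟨by norm_num⟩
  obtain ⟨y, hy⟩ := Cfsg.Agent.H315.PwHN.exists19
  obtain ⟨Q, W, -, -, -, hcol⟩ := Cfsg.Agent.H653.Sieve.exists_col H175.Ore.HNDeg.not_comm (N := 273030912000000)
    H175.Ore.HNDeg.card_hn hy (k := 1) (by rw [Cfsg.Agent.H315.PwHN.card_nineteen hy]) 9 2
    [(0, 0), (1, 2), (18, -2), (9, -1), (10, 1)] 0 false (by decide +kernel)
  have h := hcol.1 χ
  simp only [List.mem_cons, Prod.mk.injEq, List.not_mem_nil, or_false] at h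
  have h2 : charDegree (χ : Spor.HN → ℂ) % 19 = 0 ∨ charDegree (χ : Spor.HN → ℂ) % 19 = 1 ∨
      charDegree (χ : Spor.HN → ℂ) % 19 = 18 ∨ charDegree (χ : Spor.HN → ℂ) % 19 = 9 ∨
      charDegree (χ : Spor.HN → ℂ) % 19 = 10 := by
    rcases h with h | h | h | h | h
    · exact Or.inl h.1
    · exact Or.inr (Or.inl h.1)
    · exact Or.inr (Or.inr (Or.inl h.1))
    · exact Or.inr (Or.inr (Or.inr (Or.inl h.1)))
    · exact Or.inr (Or.inr (Or.inr (Or.inr h.1)))
  rw [okDeg, Bool.and_eq_true]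
  refine ⟨?_, ?_⟩
  · rw [Bool.or_eq_true, decide_eq_true_eq, beq_iff_eq]
    exact h1
  · rw [List.all_eq_true]
    intro x hx
    rw [List.mem_singleton] at hx
    subst hx
    rcases h2 with h | h | h | h | h <;> rw [h] <;> decide

/-- the numerical description of the degrees of `HN` -/
theorem num {X : Type v} [Group X] (hX : Spor.IsoHN X) :
    Num (charDegrees X) 273030912000000 (okDeg 133 [(19, 9)]) := by
  obtain ⟨e⟩ := hX
  have h : charDegrees X = charDegrees Spor.HN := H424.DegTools.charDegrees_congr e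
  exact ⟨by norm_num, fun {d} hd => (deg (h ▸ hd)).1, fun {d} hd => (deg (h ▸ hd)).2⟩

theorem test : soc2Test (2 * 273030912000000) (P2 273030912000000 (okDeg 133 [(19, 9)]))
    [(2, 15), (3, 6), (5, 6), (7, 1), (11, 1), (19, 1)] = true := by
  decide +kernel

theorem index_le {X : Type v} [Group X] (hX : Spor.IsoHN X) : (MulAut.conj : X →* MulAut X).range.index ≤ 2 := by
  obtain ⟨e⟩ := hX
  rw [H498.SporOut.index_congr e]
  have h1 : Nat.card (Out Spor.HN) = 2 := Cfsg.Agent.S2082.result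
  exact h1.le

/-- **SOC2 for `HN`** -/
theorem soc2 {X : Type v} [Group X] [Finite X] (hX : Spor.IsoHN X) {D : Set ℕ} (hD : H704.S8.Deg 2 X D) :
    H704.S8.Soc2.{u} D :=
  soc2_two (num hX) (index_le hX) (by simp; norm_num) test hD

end Cfsg.Agent.H788.S8.HN
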