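import Cfsg.Agent.H450.S8.Soc2
import Cfsg.Agent.H511.Ore.RowLy

/-!
# S4908: the row SOC2 of `Ly` (helper788)
-/

set_option autoImplicit false
set_option maxRecDepth 100000

namespace Cfsg.Agent.H788.S8.Ly

open Cfsg Cfsg.Agent.H450.S8

universe u v

/-- the test for the degrees of `Ly` -/
def pLy (d : ℕ) : Bool := okDeg 1 [(67, 22), (37, 18), (31, 6)] d

theorem of_any {l : List (ℕ × ℤ)} {m : ℕ} (h : (l.any fun rw => Nat.beq m rw.1) = true) : m ∈ l.map Prod.fst := by
  obtain ⟨x, hx, h1⟩ := List.any_eq_true.1 h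
  rw [Nat.eq_of_beq_eq_true h1]
  exact List.mem_map_of_mem hx

theorem deg {d : ℕ} (hd : d ∈ charDegrees Spor.Ly) : d ∣ 51765179004000000 ∧ pLy d = true := by
  have hK : Cfsg.Agent.H995.CopEngine.AllKnown.{0} := fun _ _ _ _ => Cfsg.Agent.S0000.result
  have := Cfsg.Agent.Ly.Setup.finite_ly
  have := Cfsg.Agent.Ly.Setup.isSimple_ly
  have hpos : 0 < d := H424.DegTools.pos_of_mem hd
  obtain ⟨χ, rfl⟩ := hd
  refine ⟨by rw [← Cfsg.Agent.Ly.Setup.card_ly]; exact H511.Ore.charDegree_dvd χ, ?_⟩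
  have has := H511.Ore.Ly.has hK
  have hok := List.all_eq_true.1 H511.Ore.Ly.chk1
  have key : ∀ c ∈ H511.Ore.Ly.cd, charDegree (χ : Spor.Ly → ℂ) % c.r ∈ c.wl.map Prod.fst := fun c hc =>
    of_any (H511.Ore.res_of_has H511.Ore.Ly.nonab Cfsg.Agent.Ly.Setup.card_ly (has c hc) (hok c hc) χ)
  have h67 := key ⟨67, 1, 22, 3, [(0, 0), (1, 3), (22, -1), (45, 1), (66, -3)], 3, true⟩ (by simp [H511.Ore.Ly.cd])
  have h37 := key ⟨37, 1, 18, 2, [(0, 0), (1, 2), (18, -1), (19, 1), (36, -2)], 2, true⟩ (by simp [H511.Ore.Ly.cd])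
  have h31 := key H511.Ore.Ly.c31 (by simp [H511.Ore.Ly.cd])
  simp only [H511.Ore.Ly.c31, List.map_cons, List.map_nil, List.mem_cons, List.not_mem_nil, or_false] at h67 h37 h31
  generalize charDegree (χ : Spor.Ly → ℂ) = d at hpos h67 h37 h31 ⊢
  rw [pLy, okDeg, Bool.and_eq_true]
  refine ⟨?_, ?_⟩
  · rw [Bool.or_eq_true, decide_eq_true_eq]
    exact Or.inr hpos
  · rw [List.all_eq_true]
    intro x hx
    simp only [List.mem_cons, List.not_mem_nil, or_false] at hx
    rcases hx with rfl | rfl | rfl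
    · rcases h67 with h | h | h | h | h <;> rw [h] <;> decide
    · rcases h37 with h | h | h | h | h <;> rw [h] <;> decide
    · rcases h31 with h | h | h | h | h <;> rw [h] <;> decide

/-- the numerical description of the degrees of `Ly` -/
theorem num {X : Type v} [Group X] (hX : Spor.IsoLy X) : Num (charDegrees X) 51765179004000000 pLy := by
  obtain ⟨e⟩ := hX
  have h : charDegrees X = charDegrees Spor.Ly := H424.DegTools.charDegrees_congr e
  exact ⟨by norm_num, fun {d} hd => (deg (h ▸ hd)).1, fun {d} hd => (deg (h ▸ hd)).2⟩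

theorem test : soc2Test 51765179004000000 (P1 51765179004000000 pLy)
    [(2, 8), (3, 7), (5, 6), (7, 1), (11, 1), (31, 1), (37, 1), (67, 1)] = true := by
  decide +kernel

/-- **SOC2 for `Ly`** -/
theorem soc2 {X : Type v} [Group X] (hX : Spor.IsoLy X) {D : Set ℕ} (hD : H704.S8.Deg 1 X D) : H704.S8.Soc2.{u} D :=
  soc2_one (num hX) (by simp; norm_num) test hD

end Cfsg.Agent.H788.S8.Ly
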