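import Cfsg.Agent.H450.S8.Soc2
import Cfsg.Agent.H1.S8.RuDeg

/-!
# S4908: the row SOC2 of `Ru` (helper788)
-/

set_option autoImplicit false
set_option maxRecDepth 100000

namespace Cfsg.Agent.H788.S8.Ru

open Cfsg Cfsg.Agent.H450.S8 Cfsg.Agent.SporadicB

universe u v

/-- the test for the degrees of `Ru` -/
def pRu (d : ℕ) : Bool :=
  d == 1 || d % 29 == 0 ||
    ((d % 29 == 1 || d % 29 == 28 || d % 29 == 14 || d % 29 == 15) && (d == 378 || decide (2016 ≤ d)))

theorem pRu_of {d : ℕ} (hd : d ∈ charDegrees RuOrder.H) : pRu d = true := by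
  rw [pRu]
  simp only [Bool.or_eq_true, Bool.and_eq_true, beq_iff_eq, decide_eq_true_eq]
  rcases H1.S8.RuDeg.cases hd with h | h | ⟨h1, h2⟩
  · exact Or.inl (Or.inl h)
  · exact Or.inl (Or.inr h)
  · refine Or.inr ⟨?_, h2⟩
    rcases h1 with h | h | h | h
    · exact Or.inl (Or.inl (Or.inl h))
    · exact Or.inl (Or.inl (Or.inr h))
    · exact Or.inl (Or.inr h)
    · exact Or.inr h

/-- the numerical description of the degrees of `Ru` -/
theorem num {X : Type v} [Group X] (hX : Spor.IsoRu X) : Num (charDegrees X) 145926144000 pRu := by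
  obtain ⟨e⟩ := hX
  have h : charDegrees X = charDegrees RuOrder.H := H424.DegTools.charDegrees_congr (e.trans RuLat.Main.equiv)
  refine ⟨by norm_num, fun {d} hd => H1.S8.RuDeg.dvd_card (h ▸ hd), fun {d} hd => pRu_of (h ▸ hd)⟩

theorem test : soc2Test 145926144000 (P1 145926144000 pRu)
    [(2, 14), (3, 3), (5, 3), (7, 1), (13, 1), (29, 1)] = true := by
  decide +kernel

/-- **SOC2 for `Ru`** -/
theorem soc2 {X : Type v} [Group X] (hX : Spor.IsoRu X) {D : Set ℕ} (hD : H704.S8.Deg 1 X D) : H704.S8.Soc2.{u} D :=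
  soc2_one (num hX) (by simp; norm_num) test hD

end Cfsg.Agent.H788.S8.Ru
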