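import Cfsg.Agent.H489.Cyc.Base
import Cfsg.Agent.H489.DegBase
import Cfsg.Agent.H153.ZerosONCent

/-!
# The nonlinear degrees of the O'Nan group are at least 42 (helper788)

`L₃(7) ≤ O'N`: an extraspecial group of order `7³` whose central elements are fused.
-/

set_option autoImplicit false

namespace Cfsg.Agent.H788.S8.ONMin

open Cfsg Cfsg.Agent.H912.Bd
open Cfsg.Spor (ON)
open Cfsg.Agent.H153.Zeros.ON19 (exists_hom finite_ON)

abbrev SL := Matrix.SpecialLinearGroup (Fin 3) (ZMod 7)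

def a0 : SL := ⟨!![1, 1, 0; 0, 1, 0; 0, 0, 1], by decide +kernel⟩
def b0 : SL := ⟨!![1, 0, 0; 0, 1, 1; 0, 0, 1], by decide +kernel⟩
def z0 : SL := ⟨!![1, 0, 1; 0, 1, 0; 0, 0, 1], by decide +kernel⟩
def w0 : SL := ⟨!![1, 0, 0; 0, 1, 0; 1, 0, 1], by decide +kernel⟩
def y0 : SL := ⟨!![3, 0, 0; 0, 5, 0; 0, 0, 1], by decide +kernel⟩

theorem hyz : y0 * z0 = z0 ^ 3 * y0 := by decide +kernel
theorem haz : a0 * z0 = z0 * a0 := by decide +kernel
theorem hbz : b0 * z0 = z0 * b0 := by decide +kernel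
theorem ha : a0 ^ 7 = 1 := by decide +kernel
theorem hz : z0 ^ 7 = 1 := by decide +kernel
theorem hab : a0 * b0 = z0 * (b0 * a0) := by decide +kernel
theorem hzw : z0 * w0 ≠ w0 * z0 := by decide +kernel

theorem bd : Bd ℂ 7 (6 * 7) ON := by
  obtain ⟨f, hf⟩ := exists_hom
  refine H489.Deg.bd_ext (F := ℂ) (a := f a0) (b := f b0) (y := f y0) (z := f z0) (k := 3) (j := 1) (by norm_num)
    (by norm_num) ?_ ?_ ?_ ?_ ?_ ?_ ?_ 6 (by decide)
  · intro h
    exact hzw ((Subgroup.mem_center_iff.1 (hf z0 h)) w0).symm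
  · rw [← map_pow, hz, map_one]
  · rw [mul_inv_eq_iff_eq_mul, ← map_mul, hyz, map_mul, map_pow]
  · rw [← map_mul, haz, map_mul]
  · rw [← map_mul, hbz, map_mul]
  · rw [pow_one, ← map_pow, ha, map_one]
  · rw [mul_inv_eq_iff_eq_mul, mul_inv_eq_iff_eq_mul, ← map_mul, hab, map_mul, map_mul, mul_assoc]

end Cfsg.Agent.H788.S8.ONMin
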