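import Cfsg.Agent.H450.S8.Soc2
import Cfsg.Agent.H393.S8.ON

/-!
# S4908: the row SOC2 of `ON` (helper788)
-/

set_option autoImplicit false
set_option maxRecDepth 100000

namespace Cfsg.Agent.H788.S8.ON

open Cfsg Cfsg.Agent.H450.S8 Cfsg.Agent.H393.S8.ON

universe u v

/-- the numerical description of the degrees of `O'N` -/
theorem num {X : Type v} [Group X] (hX : Spor.IsoON X) : Num (charDegrees X) 460815505920 (fun d => Adm.contains d) := by
  obtain ⟨e⟩ := hX
  have hs := simple
  obtain ⟨Δ⟩ := H210.On7.exists_data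
  have h : charDegrees X = charDegrees Spor.ON := H424.DegTools.charDegrees_congr e
  refine ⟨by norm_num, fun {d} hd => ?_, fun {d} hd => ?_⟩
  · rw [h] at hd
    obtain ⟨χ, rfl⟩ := hd
    have hc : Nat.card Spor.ON = 460815505920 := Δ.card
    rw [← hc]
    exact Blocks.Knorr.charDegree_dvd χ.2
  · rw [h] at hd
    obtain ⟨χ, rfl⟩ := hd
    exact List.contains_iff_mem.2 (mem_adm not_comm Δ χ)

theorem test : soc2Test (2 * 460815505920) (P2 460815505920 fun d => Adm.contains d)
    [(2, 10), (3, 4), (5, 1), (7, 3), (11, 1), (19, 1), (31, 1)] = true := by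
  decide +kernel

theorem index_le {X : Type v} [Group X] (hX : Spor.IsoON X) : (MulAut.conj : X →* MulAut X).range.index ≤ 2 := by
  obtain ⟨e⟩ := hX
  rw [H498.SporOut.index_congr e]
  exact Cfsg.Agent.S2078.result.le

/-- **SOC2 for `O'N`** -/
theorem soc2 {X : Type v} [Group X] [Finite X] (hX : Spor.IsoON X) {D : Set ℕ} (hD : H704.S8.Deg 2 X D) :
    H704.S8.Soc2.{u} D :=
  soc2_two (num hX) (index_le hX) (by simp; norm_num) test hD

end Cfsg.Agent.H788.S8.ON
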