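import Cfsg.Agent.H788.S8.ONMin
import Cfsg.Agent.H788.S8.ONSocTwo
import Cfsg.Agent.H690.S8.Soc1
import Cfsg.Agent.H196.S8.Core
import Cfsg.Agent.H245.S8.SocAltRows
import Cfsg.Agent.H504.AN.SporRows
import Cfsg.Agent.H417.RecogMathieu
import Cfsg.Agent.UGT.End.MEleven

/-!
# S4908: the row SOC1 of `ON` (helper788)

The nonlinear degrees of `O'N` are at least 42 (`ONMin`), so the candidates for the degrees of `O'N` and `O'N.2` contain
no prime power; every other sporadic group has a prime divisor or a degree which is not possible.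
-/

set_option autoImplicit false
set_option maxRecDepth 100000

namespace Cfsg.Agent.H788.S8.ON

open Cfsg Subgroup Cfsg.Agent.H450.S8 Cfsg.Agent.H196.S8
open Cfsg.Agent.H691.AN (AlmostSimple)

universe u v

theorem ge42 : ∀ d ∈ charDegrees Spor.ON, 2 ≤ d → 42 ≤ d := by
  have hs := H393.S8.ON.simple
  rintro d ⟨χ, rfl⟩ h
  exact H489.Cyc.md_of_bd ONMin.bd χ (by omega)

/-- the candidates without 32, 64 -/
def L : List ℕ := H393.S8.ON.Adm2.filter fun d => !(d == 32) && !(d == 64)

theorem mem_L {X : Type v} [Group X] [Finite X] (hX : Spor.IsoON X) {D : Set ℕ} (hD : H704.S8.Deg 2 X D) :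
    ∀ d ∈ D, d ∈ L := by
  intro d hd
  have h1 := H393.S8.ON.sup hX hD d hd
  have h2 : Num (charDegrees X) 460815505920 (fun d => H393.S8.ON.Adm.contains d && !(d == 32)) := by
    refine ⟨by norm_num, fun {d} hd => (num hX).dvd hd, fun {d} hd => ?_⟩
    rw [Bool.and_eq_true]
    refine ⟨(num hX).ok hd, ?_⟩
    obtain ⟨e⟩ := hX
    have h3 := ge42 d (H424.DegTools.charDegrees_congr e ▸ hd)
    by_contra h4
    have h5 : d = 32 := by simpa using h4
    omega
  have h3 := (h2.deg2 (index_le hX) hD).ok hd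
  refine List.mem_filter.2 ⟨h1, ?_⟩
  rw [Bool.and_eq_true]
  constructor
  · by_contra h4
    have h5 : d = 32 := by simpa using h4
    rw [h5] at h3
    exact absurd h3 (by decide +kernel)
  · by_contra h4
    have h5 : d = 64 := by simpa using h4
    rw [h5] at h3
    exact absurd h3 (by decide +kernel)

theorem chk_L : H690.S8.chk L = true := by decide +kernel

theorem low_chk : ∀ x ∈ [10, 20, 16, 32, 21, 42, 56, 112, 36, 72, 22, 44, 8910, 17820], x ∈ L → False := by
  decide +kernel

section

variable {A : Type u} [Group A] [Finite A] {S : Subgroup A} (hA : AlmostSimple A S)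
  (hD : ∀ d ∈ charDegrees A, d ∈ L) (hN : ∀ d ∈ charDegrees A, d ∣ 2 * 460815505920)

include hA

include hN in
theorem pr {p : ℕ} (hp : p.Prime) (hd : p ∣ Nat.card S) : p ∣ 2 * 460815505920 := by
  obtain ⟨d, h1, h2⟩ := prime_deg hA hp hd
  exact h2.trans (hN d h1)

include hD in
theorem two (hout : Nat.card (Out S) ≤ 2) {a : ℕ} (ha : a ∈ charDegrees S)
    (h1 : a ∈ L → False) (h2 : 2 * a ∈ L → False) : False := by
  rcases two_deg hA hout ha with h | h
  · exact h1 (hD _ h)
  · exact h2 (hD _ h)

include hD hN in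
theorem spor (h : IsSporadicGroup S) : Spor.IsoON S := by
  have hout := H489.card_out_sporadic h
  have key : ∀ {a : ℕ}, a ∈ charDegrees S → (a ∈ L → False) → (2 * a ∈ L → False) → Spor.IsoON S :=
    fun ha h1 h2 => (two hA hD hout ha h1 h2).elim
  have kp : ∀ {p N : ℕ}, p.Prime → Nat.card S = N → p ∣ N → ¬ p ∣ 2 * 460815505920 → Spor.IsoON S :=
    fun hp h1 h2 h3 => (h3 (pr hA hN hp (by rw [h1]; exact h2))).elim
  rcases h with h | h | h | h | h | h | h | h | h | h | h | h | h | h | h | h | h | h | h | h | h | h | h | h | h | h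
  · obtain ⟨h1, h2, -⟩ := H603.FD.Spor.m11 (UGT.End.MEleven.isM11 h)
    exact key h1 (low_chk 10 (by decide)) (low_chk 20 (by decide))
  · obtain ⟨h1, h2, -⟩ := H603.FD.Spor.m12 (H603.FD.Spor.isM12 h)
    exact key h1 (low_chk 16 (by decide)) (low_chk 32 (by decide))
  · obtain ⟨h1, h2, -⟩ := H603.FD.Spor.m22 (H417.RecogMathieu.isM22 h)
    exact key h1 (low_chk 21 (by decide)) (low_chk 42 (by decide))
  · exact kp (p := 23) (by norm_num) (NotCT.Orders.m23 h) (by norm_num) (by norm_num)
  · exact kp (p := 23) (by norm_num) (NotCT.Orders.m24 h) (by norm_num) (by norm_num)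
  · exact key ((H175.Eight.mem_j1 h 56).2 (by decide)) (low_chk 56 (by decide)) (low_chk 112 (by decide))
  · exact key (H672.SporIM.j2 h).2 (low_chk 36 (by decide)) (low_chk 72 (by decide))
  · exact kp (p := 17) (by norm_num) (NotCT.Orders.j3 h) (by norm_num) (by norm_num)
  · exact kp (p := 43) (by norm_num) (NotCT.Orders.j4 h) (by norm_num) (by norm_num)
  · exact kp (p := 13) (by norm_num) (NotCT.Orders.co1 h) (by norm_num) (by norm_num)
  · exact kp (p := 23) (by norm_num) (NotCT.Orders.co2 h) (by norm_num) (by norm_num)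
  · exact kp (p := 23) (by norm_num) (NotCT.Orders.co3 h) (by norm_num) (by norm_num)
  · exact key (mem_of_irr (H765.DS.HSMcL.mcl_22 h)) (low_chk 22 (by decide)) (low_chk 44 (by decide))
  · exact key (mem_of_irr (H765.DS.HSMcL.hs_22 h)) (low_chk 22 (by decide)) (low_chk 44 (by decide))
  · exact kp (p := 13) (by norm_num) (NotCT.Orders.suz h) (by norm_num) (by norm_num)
  · exact kp (p := 17) (by norm_num) (NotCT.Orders.he h) (by norm_num) (by norm_num)
  · exact kp (p := 29) (by norm_num) (NotCT.Orders.ru h) (by norm_num) (by norm_num)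
  · exact h
  · exact kp (p := 67) (by norm_num) (NotCT.Orders.ly h) (by norm_num) (by norm_num)
  · exact kp (p := 13) (by norm_num) (NotCT.Orders.fi22 h) (by norm_num) (by norm_num)
  · exact kp (p := 23) (by norm_num) (NotCT.Orders.fi23 h) (by norm_num) (by norm_num)
  · exact kp (p := 29) (by norm_num) (NotCT.Orders.fi24 h) (by norm_num) (by norm_num)
  · obtain ⟨e⟩ := h
    exact key (mem_of_equiv e (mem_of_irr' H492.IMHN.exists_8910)) (low_chk 8910 (by decide)) (low_chk 17820 (by decide))
  · exact kp (p := 13) (by norm_num) (NotCT.Orders.th h) (by norm_num) (by norm_num)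
  · exact kp (p := 47) (by norm_num) (NotCT.Orders.b h) (by norm_num) (by norm_num)
  · exact kp (p := 71) (by norm_num) (NotCT.Orders.m h) (by norm_num) (by norm_num)

end

/-- **SOC1 for `O'N`** -/
theorem soc1 {X : Type v} [Group X] [Finite X] (hX : Spor.IsoON X) {D : Set ℕ} (hD : H704.S8.Deg 2 X D) :
    H704.S8.Soc1.{u} D X := by
  have hs : IsSimpleGroup X := by
    have h0 := H393.S8.ON.simple
    obtain ⟨e⟩ := hX
    exact e.isSimpleGroup
  have hN : ∀ d ∈ D, d ∣ 2 * 460815505920 := fun d hd => ((num hX).deg2 (index_le hX) hD).dvd hd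
  have hkn : ∀ (T : Type u) [Group T] [Finite T] [IsSimpleGroup T], IsKnownSimple' T := by
    intro T _ _ _
    exact S0000.result
  have hL := mem_L hX hD
  have h1 : ∀ (A : Type u) [Group A] [Finite A] (S : Subgroup A), AlmostSimple A S → charDegrees A ⊆ D →
      IsAlternating S → Nonempty (S ≃* X) := by
    intro A _ _ S hA h hal
    exfalso
    obtain ⟨m, hm, ⟨e⟩⟩ := hal
    exact (H245.S8.kills_on hX).no_alt hD hA h hm e
  have h2 : ∀ (A : Type u) [Group A] [Finite A] (S : Subgroup A), AlmostSimple A S → charDegrees A ⊆ D →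
      Lie.IsoTits S → Nonempty (S ≃* X) := by
    intro A _ _ S hA h ht
    exfalso
    have h1 := pr hA (fun d hd => hN d (h hd)) (p := 13) (by norm_num) (by rw [NotCT.Orders.tits ht]; norm_num)
    norm_num at h1
  have h3 : ∀ (A : Type u) [Group A] [Finite A] (S : Subgroup A), AlmostSimple A S → charDegrees A ⊆ D →
      IsSporadicGroup S → Nonempty (S ≃* X) := by
    intro A _ _ S hA h hsp
    obtain ⟨e⟩ := spor hA (fun d hd => mem_L hX hD d (h hd)) (fun d hd => hN d (h hd)) hsp
    obtain ⟨f⟩ := hX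
    exact ⟨e.trans f.symm⟩
  exact @H690.S8.soc1_list D X _ hkn L hL chk_L h1 h2 h3

end Cfsg.Agent.H788.S8.ON
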